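import Mathlib

set_option autoImplicit false
universe u

open CategoryTheory CategoryTheory.Limits

namespace Groth.Agent.Lib.Helper5.SubCx

variable {R : Type u} [CommRing R]

section layer1
variable (F : CochainComplex (ModuleCat.{u} R) ℤ) (N : ∀ n : ℤ, Submodule R (F.X n))
  (hN : ∀ (n m : ℤ) (x : F.X n), x ∈ N n → (F.d n m).hom x ∈ N m)

/-- the subcomplex given by a family of submodules stable under the differential. -/
noncomputable def subCx : CochainComplex (ModuleCat.{u} R) ℤ where
  X n := ModuleCat.of R (N n)
  d n m := ModuleCat.ofHom ((F.d n m).hom.restrict (hN n m))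
  shape n m h := by
    ext x
    show (F.d n m).hom x.1 = 0
    rw [F.shape n m h]
    rfl
  d_comp_d' n m k _ _ := by
    ext x
    show (F.d m k).hom ((F.d n m).hom x.1) = 0
    have := F.d_comp_d n m k
    have h2 : (F.d n m ≫ F.d m k).hom x.1 = 0 := by rw [this]; rfl
    exact h2

/-- the inclusion of the subcomplex. -/
noncomputable def subCxι : subCx F N hN ⟶ F where
  f n := ModuleCat.ofHom (N n).subtype
  comm' n m _ := by
    ext x
    rfl

theorem subCxι_injective (n : ℤ) : Function.Injective ((subCxι F N hN).f n) :=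
  Subtype.val_injective

theorem mem_range_subCxι (n : ℤ) (x : F.X n) (hx : x ∈ N n) :
    x ∈ Set.range ((subCxι F N hN).f n) := ⟨⟨x, hx⟩, rfl⟩

end layer1


section layer2
variable (F : CochainComplex (ModuleCat.{u} R) ℤ) {ι : ℤ → Type u}
  (b : ∀ n, Module.Basis (ι n) R (F.X n)) (T : ∀ n : ℤ, Set (F.X n))

/-- the basis elements needed. -/
inductive Mem : (n : ℤ) → ι n → Prop
  | base (n : ℤ) (x : F.X n) (e : ι n) : x ∈ T n → e ∈ ((b n).repr x).support → Mem n e
  | step (n m : ℤ) (e : ι n) (e' : ι m) : Mem n e →
      e' ∈ ((b m).repr ((F.d n m).hom (b n e))).support → Mem m e'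

/-- the generated submodules. -/
def NN (n : ℤ) : Submodule R (F.X n) := Submodule.span R (b n '' {e | Mem F b T n e})

theorem mem_NN_of_support (n : ℤ) (y : F.X n)
    (hy : ∀ e ∈ ((b n).repr y).support, Mem F b T n e) : y ∈ NN F b T n := by
  rw [← (b n).linearCombination_repr y, Finsupp.linearCombination_apply]
  refine Submodule.sum_mem _ fun e he => ?_
  exact Submodule.smul_mem _ _ (Submodule.subset_span ⟨e, hy e he, rfl⟩)

theorem T_le_NN (n : ℤ) (x : F.X n) (hx : x ∈ T n) : x ∈ NN F b T n :=
  mem_NN_of_support F b T n x fun e he => Mem.base n x e hx he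

theorem d_mem_NN (n m : ℤ) (x : F.X n) (hx : x ∈ NN F b T n) :
    (F.d n m).hom x ∈ NN F b T m := by
  unfold NN at hx
  refine Submodule.span_induction ?_ ?_ ?_ ?_ hx
  · rintro _ ⟨e, he, rfl⟩
    exact mem_NN_of_support F b T m _ fun e' he' => Mem.step n m e e' he he'
  · rw [map_zero]; exact Submodule.zero_mem _
  · intro x y _ _ hx hy; rw [map_add]; exact Submodule.add_mem _ hx hy
  · intro r x _ hx; rw [map_smul]; exact Submodule.smul_mem _ _ hx

theorem le_of_mem (a : ℤ) (hT : ∀ n, n < a → T n = ∅) (n : ℤ) (e : ι n) (h : Mem F b T n e) :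
    a ≤ n := by
  induction h with
  | base n x e hx _ =>
    by_contra hlt
    rw [hT n (not_le.1 hlt)] at hx
    exact hx
  | step n m e e' _ hsupp ih =>
    have hne : F.d n m ≠ 0 := by
      intro h0
      rw [h0] at hsupp
      simp at hsupp
    have hrel : (ComplexShape.up ℤ).Rel n m := by
      by_contra hr
      exact hne (F.shape n m hr)
    have : n + 1 = m := hrel
    omega

theorem finite_mem (a : ℤ) (hT : ∀ n, n < a → T n = ∅) (hTfin : ∀ n, (T n).Finite) (m : ℤ) :
    {e | Mem F b T m e}.Finite := by
  have key : ∀ k : ℕ, ∀ m : ℤ, m < a + k → {e | Mem F b T m e}.Finite := by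
    intro k
    induction k with
    | zero =>
      intro m hm
      have : {e | Mem F b T m e} = ∅ := by
        ext e
        simp only [Set.mem_ofPred_eq, Set.mem_empty_iff_false, iff_false]
        intro h
        have := le_of_mem F b T a hT m e h
        simp at hm
        omega
      rw [this]
      exact Set.finite_empty
    | succ k ih =>
      intro m hm
      have hsub : {e | Mem F b T m e} ⊆
          (⋃ x ∈ T m, (((b m).repr x).support : Set (ι m))) ∪
          (⋃ e ∈ {e | Mem F b T (m - 1) e},
            (((b m).repr ((F.d (m - 1) m).hom (b (m - 1) e))).support : Set (ι m))) := by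
        intro e' he'
        cases he' with
        | base _ x _ hx hsupp =>
          exact Or.inl (Set.mem_biUnion hx hsupp)
        | step n _ e _ hmem hsupp =>
          have hne : F.d n m ≠ 0 := by
            intro h0
            rw [h0] at hsupp
            simp at hsupp
          have hrel : (ComplexShape.up ℤ).Rel n m := by
            by_contra hr
            exact hne (F.shape n m hr)
          have hnm : n + 1 = m := hrel
          have : n = m - 1 := by omega
          subst this
          exact Or.inr (Set.mem_biUnion hmem hsupp)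
      refine Set.Finite.subset (Set.Finite.union ?_ ?_) hsub
      · exact Set.Finite.biUnion (hTfin m) fun x _ => Finset.finite_toSet _
      · refine Set.Finite.biUnion (ih (m - 1) ?_) fun e _ => Finset.finite_toSet _
        push_cast at hm
        omega
  exact key (m - a + 1).toNat m (by
    have : ((m - a + 1).toNat : ℤ) ≥ m - a + 1 := Int.self_le_toNat _
    omega)

end layer2


theorem main (R : Type u) [CommRing R]
    (F : CochainComplex (ModuleCat.{u} R) ℤ) (hfree : ∀ n : ℤ, Module.Free R (F.X n))
    (b : ℤ) (hb : ∀ n : ℤ, b < n → IsZero (F.X n))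
    (N : ℕ) (deg : Fin N → ℤ) (f : ∀ i : Fin N, F.X (deg i)) :
    ∃ (G : CochainComplex (ModuleCat.{u} R) ℤ) (ι : G ⟶ F),
      (∀ n : ℤ, Function.Injective (ι.f n)) ∧
      (∃ a c : ℤ, ∀ n : ℤ, (n < a ∨ c < n) → IsZero (G.X n)) ∧
      (∀ n : ℤ, Module.Finite R (G.X n) ∧ Module.Free R (G.X n)) ∧
      ∀ i : Fin N, f i ∈ Set.range (ι.f (deg i)) := by
  classical
  let ιn : ℤ → Type u := fun n => @Module.Free.ChooseBasisIndex R (F.X n) _ _ _ (hfree n)
  let bas : ∀ n, Module.Basis (ιn n) R (F.X n) := fun n =>
    @Module.Free.chooseBasis R (F.X n) _ _ _ (hfree n)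
  let T : ∀ n : ℤ, Set (F.X n) := fun n => {x | ∃ i, ∃ h : deg i = n, h ▸ f i = x}
  let a : ℤ := - ∑ i, |deg i|
  have ha : ∀ i, a ≤ deg i := by
    intro i
    have h1 : |deg i| ≤ ∑ j, |deg j| :=
      Finset.single_le_sum (f := fun j => |deg j|) (fun j _ => abs_nonneg _) (Finset.mem_univ i)
    have h2 : -|deg i| ≤ deg i := neg_abs_le _
    simp only [a]
    omega
  have hT : ∀ n, n < a → T n = ∅ := by
    intro n hn
    ext x
    simp only [Set.mem_empty_iff_false, iff_false]
    rintro ⟨i, h, -⟩
    have := ha i
    omega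
  have hTfin : ∀ n, (T n).Finite := by
    intro n
    have : T n ⊆ Set.range (fun i : {i : Fin N // deg i = n} => (i.2 ▸ f i.1 : F.X n)) := by
      rintro x ⟨i, h, rfl⟩
      exact ⟨⟨i, h⟩, rfl⟩
    exact (Set.finite_range _).subset this
  have hN := d_mem_NN F bas T
  refine ⟨subCx F (NN F bas T) hN, subCxι F (NN F bas T) hN, subCxι_injective F _ hN,
    ⟨a, b, ?_⟩, ?_, ?_⟩
  · rintro n (hn | hn)
    · have hempty : {e | Mem F bas T n e} = ∅ := by
        ext e
        simp only [Set.mem_ofPred_eq, Set.mem_empty_iff_false, iff_false]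
        intro h
        have := le_of_mem F bas T a hT n e h
        omega
      have hbot : NN F bas T n = ⊥ := by
        unfold NN
        rw [hempty, Set.image_empty, Submodule.span_empty]
      haveI : Subsingleton ↥(NN F bas T n) := by
        rw [hbot]; infer_instance
      exact ModuleCat.isZero_of_subsingleton (ModuleCat.of R ↥(NN F bas T n))
    · haveI : Subsingleton (F.X n) := ModuleCat.subsingleton_of_isZero (hb n hn)
      haveI : Subsingleton ↥(NN F bas T n) := inferInstance
      exact ModuleCat.isZero_of_subsingleton (ModuleCat.of R ↥(NN F bas T n))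
  · intro n
    have hfin := finite_mem F bas T a hT hTfin n
    constructor
    · show Module.Finite R ↥(NN F bas T n)
      exact Module.Finite.span_of_finite R (hfin.image _)
    · show Module.Free R ↥(NN F bas T n)
      have hli : LinearIndependent R (fun e : {e | Mem F bas T n e} => bas n e.1) :=
        (bas n).linearIndependent.comp Subtype.val Subtype.val_injective
      have hrange : Set.range (fun e : {e | Mem F bas T n e} => bas n e.1) =
          bas n '' {e | Mem F bas T n e} := by
        ext y
        constructor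
        · rintro ⟨e, rfl⟩; exact ⟨e.1, e.2, rfl⟩
        · rintro ⟨e, he, rfl⟩; exact ⟨⟨e, he⟩, rfl⟩
      have hB := Module.Basis.span hli
      rw [hrange] at hB
      exact Module.Free.of_basis hB
  · intro i
    exact mem_range_subCxι F _ hN (deg i) (f i) (T_le_NN F bas T (deg i) (f i) ⟨i, rfl, rfl⟩)

end Groth.Agent.Lib.Helper5.SubCx
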